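import Groth.Prelude.Def_EtGm
import Mathlib.RingTheory.Etale.Basic
import Mathlib.RingTheory.RingHom.Etale
import Mathlib.AlgebraicGeometry.Morphisms.Etale

/-!
# Affine étale objects over an affine open and their units
-/

set_option autoImplicit false
set_option backward.isDefEq.respectTransparency false
set_option backward.isDefEq.respectTransparency.types false

universe u

open CategoryTheory CategoryTheory.Limits AlgebraicGeometry Opposite
open scoped TensorProduct

noncomputable section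

namespace GrothLib.PicLocal18

variable {X : Scheme.{u}} {U : X.Opens} (hU : IsAffineOpen U)

theorem etale_specAlgMap (A : Type u) [CommRing A] [Algebra Γ(X, U) A] [Algebra.Etale Γ(X, U) A] :
    Etale (Spec.map (CommRingCat.ofHom (algebraMap Γ(X, U) A))) := by
  rw [HasRingHomProperty.Spec_iff (P := @Etale)]
  exact RingHom.etale_algebraMap.2 ‹_›

/-- An étale algebra as an étale scheme over `X`. -/
def obj (A : Type u) [CommRing A] [Algebra Γ(X, U) A] [Algebra.Etale Γ(X, U) A] : X.Etale :=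
  MorphismProperty.Over.mk ⊤ (Spec.map (CommRingCat.ofHom (algebraMap Γ(X, U) A)) ≫ hU.fromSpec) (by
    haveI := etale_specAlgMap (X := X) (U := U) A
    exact inferInstanceAs (Etale (Spec.map (CommRingCat.ofHom (algebraMap Γ(X, U) A)) ≫ hU.fromSpec)))

variable {A A' : Type u} [CommRing A] [Algebra Γ(X, U) A] [Algebra.Etale Γ(X, U) A]
  [CommRing A'] [Algebra Γ(X, U) A'] [Algebra.Etale Γ(X, U) A']

/-- The morphism of an algebra map. -/
def map (φ : A →ₐ[Γ(X, U)] A') : obj hU A' ⟶ obj hU A :=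
  MorphismProperty.Over.homMk (Spec.map (CommRingCat.ofHom φ.toRingHom)) (by
    change Spec.map _ ≫ Spec.map _ ≫ hU.fromSpec = Spec.map _ ≫ hU.fromSpec
    rw [← Spec.map_comp_assoc, ← CommRingCat.ofHom_comp]
    congr 3
    exact RingHom.ext φ.commutes) trivial

/-- The underlying invertible function of a section. -/
def val {T : X.Etale} (s : EtCoh.sect (EtCoh.Gm X) T) : Γ(T.left, ⊤) :=
  Units.val (Additive.toMul (show Additive (Γ(T.left, ⊤) : Type u)ˣ from
    ULift.down (show ULift.{u + 1} (Additive (Γ(T.left, ⊤) : Type u)ˣ) from s)))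

theorem val_add {T : X.Etale} (s t : EtCoh.sect (EtCoh.Gm X) T) : val (s + t) = val s * val t := rfl

theorem val_injective {T : X.Etale} : Function.Injective (val (T := T)) := fun _ _ h =>
  ULift.ext _ _ (Additive.toMul.injective (Units.ext h))

theorem val_map {T T' : X.Etale} (g : T' ⟶ T) (s : EtCoh.sect (EtCoh.Gm X) T) :
    val ((EtCoh.Gm X).obj.map g.op s) = g.left.appTop.hom (val s) := rfl

/-- A section of the multiplicative group from a unit. -/
def ofUnit {T : X.Etale} (v : Γ(T.left, ⊤)) (hv : IsUnit v) : EtCoh.sect (EtCoh.Gm X) T :=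
  show ULift.{u + 1} (Additive (Γ(T.left, ⊤) : Type u)ˣ) from ULift.up (Additive.ofMul hv.unit)

theorem val_ofUnit {T : X.Etale} (v : Γ(T.left, ⊤)) (hv : IsUnit v) : val (ofUnit v hv) = v := rfl

/-- Elements of the algebra as functions on a scheme mapping to its spectrum. -/
def eta {T : X.Etale} (g : T ⟶ obj hU A) : A →+* Γ(T.left, ⊤) :=
  ((Scheme.ΓSpecIso (CommRingCat.of A)).inv ≫ g.left.appTop).hom

theorem eta_comp {T T' : X.Etale} (k : T' ⟶ T) (g : T ⟶ obj hU A) (a : A) :
    eta hU (k ≫ g) a = k.left.appTop.hom (eta hU g a) := rfl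

theorem eta_comp_map {T : X.Etale} (φ : A →ₐ[Γ(X, U)] A') (g : T ⟶ obj hU A') (a : A) :
    eta hU (g ≫ map hU φ) a = eta hU g (φ a) := by
  have h := congr($(Scheme.ΓSpecIso_inv_naturality (CommRingCat.ofHom φ.toRingHom)) a)
  exact (congrArg g.left.appTop.hom h).symm

/-- Pairs of points of one affine object factor through the tensor square. -/
theorem exists_pair [Algebra.Etale Γ(X, U) (A ⊗[Γ(X, U)] A)] {T : X.Etale} (g₁ g₂ : T ⟶ obj hU A) :
    ∃ k : T ⟶ obj hU (A ⊗[Γ(X, U)] A),
      k ≫ map hU Algebra.TensorProduct.includeLeft = g₁ ∧ k ≫ map hU Algebra.TensorProduct.includeRight = g₂ := by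
  let R := Γ(X, U)
  let a : Spec (CommRingCat.of A) ⟶ Spec (CommRingCat.of R) := Spec.map (CommRingCat.ofHom (algebraMap R A))
  let l₁ : T.left ⟶ Spec (CommRingCat.of A) := g₁.left
  let l₂ : T.left ⟶ Spec (CommRingCat.of A) := g₂.left
  have hg : ∀ g : T ⟶ obj hU A, ((show T.left ⟶ Spec (CommRingCat.of A) from g.left) ≫ a) ≫ hU.fromSpec = T.hom :=
    fun g => (Category.assoc _ _ _).trans (MorphismProperty.Over.w g)
  have hw : l₁ ≫ a = l₂ ≫ a := (cancel_mono hU.fromSpec).1 ((hg g₁).trans (hg g₂).symm)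
  let m : T.left ⟶ Spec (CommRingCat.of (A ⊗[R] A)) := pullback.lift l₁ l₂ hw ≫ (pullbackSpecIso R A A).hom
  have h1 : m ≫ Spec.map (CommRingCat.ofHom
      (Algebra.TensorProduct.includeLeft : A →ₐ[R] A ⊗[R] A).toRingHom) = l₁ := by
    refine (Category.assoc _ _ _).trans ?_
    exact (congrArg (pullback.lift l₁ l₂ hw ≫ ·) (pullbackSpecIso_hom_fst R A A)).trans (pullback.lift_fst _ _ _)
  have h2 : m ≫ Spec.map (CommRingCat.ofHom
      (Algebra.TensorProduct.includeRight : A →ₐ[R] A ⊗[R] A).toRingHom) = l₂ := by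
    refine (Category.assoc _ _ _).trans ?_
    exact (congrArg (pullback.lift l₁ l₂ hw ≫ ·) (pullbackSpecIso_hom_snd R A A)).trans (pullback.lift_snd _ _ _)
  let k : T ⟶ obj hU (A ⊗[R] A) := MorphismProperty.Over.homMk m (by
    refine Eq.trans ?_ (hg g₁)
    change m ≫ Spec.map _ ≫ hU.fromSpec = (l₁ ≫ a) ≫ hU.fromSpec
    rw [← h1]
    simp only [Category.assoc, a]
    rw [← Spec.map_comp_assoc, ← CommRingCat.ofHom_comp]
    congr 4) trivial
  exact ⟨k, MorphismProperty.Over.Hom.ext h1, MorphismProperty.Over.Hom.ext h2⟩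

end GrothLib.PicLocal18
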