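import Mathlib.RingTheory.Flat.FaithfullyFlat.Algebra
import Mathlib.RingTheory.Flat.Equalizer
import Mathlib.RingTheory.TensorProduct.Maps
import Mathlib.RingTheory.Ideal.Operations

/-!
# Rank one descent data are trivial near every prime
-/

set_option autoImplicit false

universe u

open TensorProduct

namespace GrothLib.PicLocal18

variable {R B : Type u} [CommRing R] [CommRing B] [Algebra R B]

/-- The first face. -/
noncomputable def face12 : B ⊗[R] B →ₐ[R] B ⊗[R] (B ⊗[R] B) :=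
  Algebra.TensorProduct.map (AlgHom.id R B) Algebra.TensorProduct.includeLeft

/-- The second face. -/
noncomputable def face13 : B ⊗[R] B →ₐ[R] B ⊗[R] (B ⊗[R] B) :=
  Algebra.TensorProduct.map (AlgHom.id R B) Algebra.TensorProduct.includeRight

/-- The third face. -/
noncomputable def face23 : B ⊗[R] B →ₐ[R] B ⊗[R] (B ⊗[R] B) :=
  Algebra.TensorProduct.includeRight

/-- The invariant elements of a cocycle span the unit ideal. -/
theorem span_invariant_eq_top [Module.Flat R B] (u : B ⊗[R] B) (hu : IsUnit u)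
    (hc : face23 u * face12 u = face13 u) :
    Ideal.span {b : B | u * (b ⊗ₜ[R] (1 : B)) = (1 : B) ⊗ₜ[R] b} = ⊤ := by
  let d : B →ₗ[R] B ⊗[R] B :=
    (LinearMap.mulLeft R u).comp (Algebra.TensorProduct.includeLeft : B →ₐ[R] B ⊗[R] B).toLinearMap -
      (Algebra.TensorProduct.includeRight : B →ₐ[R] B ⊗[R] B).toLinearMap
  have hd : ∀ b, d b = u * (b ⊗ₜ[R] (1 : B)) - (1 : B) ⊗ₜ[R] b := fun b => rfl
  have hl : ∀ x : B ⊗[R] B, d.lTensor B x = face23 u * face12 x - face13 x := by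
    intro x
    induction x using TensorProduct.induction_on with
    | zero => simp
    | add p q hp hq => rw [map_add, hp, hq, map_add, map_add]; ring
    | tmul b c =>
      rw [LinearMap.lTensor_tmul, hd, TensorProduct.tmul_sub]
      simp [face12, face13, face23]
  have hker : d.lTensor B u = 0 := by rw [hl, hc, sub_self]
  obtain ⟨y, hy⟩ := ((Module.Flat.lTensor_exact B (LinearMap.exact_subtype_ker_map d)) u).1 hker
  let μ : B ⊗[R] B →ₐ[R] B := Algebra.TensorProduct.lmul' R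
  have hone : μ u = 1 := by
    let ε : B ⊗[R] (B ⊗[R] B) →ₐ[R] B := μ.comp (Algebra.TensorProduct.map (AlgHom.id R B) μ)
    have h12 : ε.comp face12 = μ := Algebra.TensorProduct.ext' fun b c => by simp [ε, μ, face12]
    have h13 : ε.comp face13 = μ := Algebra.TensorProduct.ext' fun b c => by simp [ε, μ, face13]
    have h23 : ε.comp face23 = μ := Algebra.TensorProduct.ext' fun b c => by simp [ε, μ, face23]
    have h : ε (face23 u) * ε (face12 u) = ε (face13 u) := by rw [← map_mul, hc]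
    rw [show ε (face23 u) = μ u from AlgHom.congr_fun h23 u,
      show ε (face12 u) = μ u from AlgHom.congr_fun h12 u,
      show ε (face13 u) = μ u from AlgHom.congr_fun h13 u] at h
    exact (hu.map μ).mul_left_cancel (h.trans (mul_one _).symm)
  rw [Ideal.eq_top_iff_one, ← hone]
  suffices key : ∀ z : B ⊗[R] LinearMap.ker d,
      μ ((LinearMap.ker d).subtype.lTensor B z) ∈
        Ideal.span {b : B | u * (b ⊗ₜ[R] (1 : B)) = (1 : B) ⊗ₜ[R] b} by
    have h := key y
    rw [hy] at h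
    convert h using 4
    rw [hone]
  intro z
  induction z using TensorProduct.induction_on with
  | zero => simp
  | add p q hp hq => rw [map_add, map_add]; exact add_mem hp hq
  | tmul b c =>
    rw [LinearMap.lTensor_tmul]
    show μ (b ⊗ₜ[R] (c : B)) ∈ _
    rw [Algebra.TensorProduct.lmul'_apply_tmul]
    refine Ideal.mul_mem_left _ b (Ideal.subset_span ?_)
    exact sub_eq_zero.1 ((hd c).symm.trans (LinearMap.mem_ker.1 c.2))

/-- An element with equal images in the tensor square comes from the base. -/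
theorem exists_algebraMap_eq [Module.FaithfullyFlat R B] (c : B) (h : c ⊗ₜ[R] (1 : B) = (1 : B) ⊗ₜ[R] c) :
    ∃ r : R, algebraMap R B r = c := by
  let N : Submodule R B := LinearMap.range (Algebra.linearMap R B)
  have h1 : N.mkQ 1 = 0 := by
    rw [Submodule.mkQ_apply, Submodule.Quotient.mk_eq_zero]
    exact ⟨1, by simp⟩
  have h0 : (1 : B) ⊗ₜ[R] N.mkQ c = (1 : B) ⊗ₜ[R] (0 : B ⧸ N) := by
    have := congrArg (N.mkQ.lTensor B) h
    rw [LinearMap.lTensor_tmul, LinearMap.lTensor_tmul, h1, TensorProduct.tmul_zero] at this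
    rw [TensorProduct.tmul_zero]
    exact this.symm
  obtain ⟨r, hr⟩ := (Submodule.Quotient.mk_eq_zero N).1
    (Module.FaithfullyFlat.tensorProduct_mk_injective (A := R) (B := B) (B ⧸ N) h0)
  exact ⟨r, hr⟩

/-- A cocycle is a coboundary away from an element outside a given prime. -/
theorem exists_invariant_unit [Module.FaithfullyFlat R B] (u : B ⊗[R] B) (hu : IsUnit u)
    (hc : face23 u * face12 u = face13 u) (p : Ideal R) [p.IsPrime] :
    ∃ (ℓ ℓ' : B) (r : R), r ∉ p ∧ ℓ * ℓ' = algebraMap R B r ∧ u * (ℓ ⊗ₜ[R] (1 : B)) = (1 : B) ⊗ₜ[R] ℓ := by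
  obtain ⟨v, rfl⟩ := hu
  have hv : face23 ((v⁻¹ : (B ⊗[R] B)ˣ) : B ⊗[R] B) * face12 ((v⁻¹ : (B ⊗[R] B)ˣ) : B ⊗[R] B) =
      face13 ((v⁻¹ : (B ⊗[R] B)ˣ) : B ⊗[R] B) := by
    set w := ((v⁻¹ : (B ⊗[R] B)ˣ) : B ⊗[R] B)
    have hvw : (v : B ⊗[R] B) * w = 1 := v.mul_inv
    refine (v.isUnit.map face13).mul_left_cancel ?_
    rw [← map_mul, hvw, map_one, ← hc, mul_mul_mul_comm, ← map_mul, ← map_mul, hvw, map_one, map_one, mul_one]
  by_contra hcon
  push_neg at hcon
  have hle : Ideal.span {b : B | (v : B ⊗[R] B) * (b ⊗ₜ[R] (1 : B)) = (1 : B) ⊗ₜ[R] b} *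
      Ideal.span {b : B | ((v⁻¹ : (B ⊗[R] B)ˣ) : B ⊗[R] B) * (b ⊗ₜ[R] (1 : B)) = (1 : B) ⊗ₜ[R] b} ≤
        p.map (algebraMap R B) := by
    rw [Ideal.span_mul_span', Ideal.span_le]
    rintro _ ⟨ℓ, hℓ, ℓ', hℓ', rfl⟩
    have hinv : (ℓ * ℓ') ⊗ₜ[R] (1 : B) = (1 : B) ⊗ₜ[R] (ℓ * ℓ') := by
      have h : ((v : B ⊗[R] B) * (ℓ ⊗ₜ[R] (1 : B))) *
          (((v⁻¹ : (B ⊗[R] B)ˣ) : B ⊗[R] B) * (ℓ' ⊗ₜ[R] (1 : B))) = ((1 : B) ⊗ₜ[R] ℓ) * ((1 : B) ⊗ₜ[R] ℓ') :=
        congrArg₂ (· * ·) hℓ hℓ'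
      rw [mul_mul_mul_comm, Units.mul_inv, one_mul, Algebra.TensorProduct.tmul_mul_tmul,
        Algebra.TensorProduct.tmul_mul_tmul, mul_one] at h
      exact h
    obtain ⟨r, hr⟩ := exists_algebraMap_eq (ℓ * ℓ') hinv
    by_cases hrp : r ∈ p
    · exact (congrArg (fun t => t ∈ p.map (algebraMap R B)) hr).mp (Ideal.mem_map_of_mem _ hrp)
    · exact absurd hℓ (hcon ℓ ℓ' r hrp hr.symm)
  rw [span_invariant_eq_top _ v.isUnit hc, span_invariant_eq_top _ (v⁻¹).isUnit hv, Ideal.top_mul] at hle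
  have htop := congrArg (Ideal.comap (algebraMap R B)) (top_le_iff.1 hle)
  rw [Ideal.comap_map_eq_self_of_faithfullyFlat, Ideal.comap_top] at htop
  exact Ideal.IsPrime.ne_top ‹_› htop

end GrothLib.PicLocal18
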