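import Groth.Agent.Lib.PicLocal18.Algebra
import Groth.Agent.Lib.PicLocal18.Aff
import Groth.Agent.Lib.EtQc13.Affine
import Groth.Agent.Lib.EtTrace21.Torsion
import Groth.Agent.Lib.EtTrace21.H1Field
import Mathlib.RingTheory.Spectrum.Prime.RingHom

/-!
# Degree one classes of the multiplicative group die Zariski locally
-/

set_option autoImplicit false
set_option backward.isDefEq.respectTransparency false
set_option backward.isDefEq.respectTransparency.types false
set_option linter.style.haveILetI false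

universe u

open CategoryTheory CategoryTheory.Limits CategoryTheory.Abelian AlgebraicGeometry Opposite
open GrothLib.EtSite GrothLib.EtColim GrothLib.EtTrace21
open scoped TensorProduct

noncomputable section

namespace GrothLib.PicLocal18

variable {X : Scheme.{u}}

/-- A class pulled back to a scheme where the section lifts is zero. -/
theorem Hpull_eq_zero_of_lift {F : EtCoh.Ab X} (φ : Z X ⟶ (injS F).X₃) (V : X.Etale)
    (a : EtCoh.sect (injS F).X₂ V)
    (ha : (injS F).g.hom.app (op V) a =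
      (injS F).X₃.obj.map ((EtCore.topIsTerminal X).from V).op (evOne _ φ))
    [PreservesFiniteLimits (EtCoh.pull V.hom)] :
    EtCore.Hpull V.hom F 1 ((Ext.mk₀ φ).comp (injS_shortExact F).extClass (zero_add 1)) = 0 := by
  have hS := injS_shortExact F
  haveI : Etale V.hom := V.prop
  let j : V.left ⟶ X := V.hom
  let σ : EtCoh.top V.left ⟶ (EtCoh.bc j).obj V :=
    MorphismProperty.Over.homMk (pullback.lift (𝟙 V.left) (𝟙 V.left) (by simp [j]))
      (pullback.lift_snd _ _ _)
  obtain ⟨ψ, hψ⟩ := (bijective_evOne _).2 (((EtCoh.pull j).obj (injS F).X₂).obj.map σ.op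
    (((EtCoh.pullPushAdj j).unit.app (injS F).X₂).hom.app (op V) a))
  have hψφ : ψ ≫ (EtCoh.pull j).map (injS F).g = (EtCore.pullConst j ℤ).inv ≫ (EtCoh.pull j).map φ := by
    refine (bijective_evOne _).1 ?_
    rw [evOne_comp, evOne_comp, hψ, evOne_pullConst_inv]
    refine (NatTrans.naturality_apply ((EtCoh.pull j).map (injS F).g).hom σ.op _).trans ?_
    refine Eq.trans ?_ (NatTrans.naturality_apply ((EtCoh.pull j).map φ).hom (EtCore.bcTopIso j).inv.op _).symm
    have h1 := congrArg (fun q : (injS F).X₂ ⟶ _ => q.hom.app (op V) a)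
      ((EtCoh.pullPushAdj j).unit.naturality (injS F).g)
    have h2 := congrArg (fun q : Z X ⟶ _ => q.hom.app (op (EtCoh.top X)) (one X))
      ((EtCoh.pullPushAdj j).unit.naturality φ)
    have h3 := (congrArg (((EtCoh.pullPushAdj j).unit.app (injS F).X₃).hom.app (op V)) ha).trans
      (NatTrans.naturality_apply ((EtCoh.pullPushAdj j).unit.app (injS F).X₃).hom
        ((EtCore.topIsTerminal X).from V).op (evOne _ φ))
    refine ((congrArg (((EtCoh.pull j).obj (injS F).X₃).obj.map σ.op) (h1.symm.trans h3)).trans ?_).trans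
      (congrArg (((EtCoh.pull j).obj (injS F).X₃).obj.map (EtCore.bcTopIso j).inv.op) h2)
    change ((EtCoh.pull j).obj (injS F).X₃).obj.map σ.op
        (((EtCoh.pull j).obj (injS F).X₃).obj.map ((EtCoh.bc j).map ((EtCore.topIsTerminal X).from V)).op _) = _
    rw [← ConcreteCategory.comp_apply, ← Functor.map_comp, ← op_comp]
    congr 4
    exact (EtCore.bcTopIsTerminal j).hom_ext _ _
  haveI : PreservesFiniteLimits (EtCoh.pull j) := ‹PreservesFiniteLimits (EtCoh.pull V.hom)›
  change EtCore.Hpull j F 1 _ = 0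
  rw [GrothLib.EtDer.MV.Hpull_apply, Ext.mapExactFunctor_comp, Ext.mapExactFunctor_mk₀,
    Ext.mk₀_comp_mk₀_assoc, ← hψφ, ← Ext.mk₀_comp_mk₀_assoc, ← Ext.mapExactFunctor_mk₀,
    ← Ext.mapExactFunctor_comp, hS.comp_extClass, Ext.mapExactFunctor_zero, Ext.comp_zero]

/-- Sections descend along a covering morphism. -/
theorem exists_descend_singleton (F : EtCoh.Ab X) {V W : X.Etale} (q : V ⟶ W) (hq : Surjective q.left)
    (a : EtCoh.sect F V)
    (h : ∀ (T : X.Etale) (g₁ g₂ : T ⟶ V), g₁ ≫ q = g₂ ≫ q → F.obj.map g₁.op a = F.obj.map g₂.op a) :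
    ∃ b, F.obj.map q.op b = a := by
  have hcov : Sieve.generate (Presieve.singleton q) ∈ X.smallEtaleTopology W :=
    (mem_topology_iff _).2 fun y => by
      obtain ⟨z, hz⟩ := hq.surj y
      exact ⟨V, q, z, ⟨V, 𝟙 V, q, ⟨⟩, Category.id_comp q⟩, hz⟩
  have hsh : (Presieve.singleton q).IsSheafFor (F.obj ⋙ forget AddCommGrpCat.{u + 1}) :=
    (Presieve.isSheafFor_iff_generate _).2 ((isSheaf_iff_isSheaf_of_type _ _).1
      (Presheaf.isSheaf_comp_of_isSheaf X.smallEtaleTopology F.obj (forget AddCommGrpCat.{u+1}) F.property) _ hcov)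
  obtain ⟨b, hb, -⟩ := Presieve.isSheafFor_singleton.1 hsh a fun g₁ g₂ hg => h _ g₁ g₂ hg
  exact ⟨b, hb⟩

/-- Sections are separated along a covering morphism. -/
theorem injective_map_of_surjective (F : EtCoh.Ab X) {V W : X.Etale} (q : V ⟶ W) (hq : Surjective q.left) :
    Function.Injective (F.obj.map q.op) := by
  have hcov : Sieve.generate (Presieve.singleton q) ∈ X.smallEtaleTopology W :=
    (mem_topology_iff _).2 fun y => by
      obtain ⟨z, hz⟩ := hq.surj y
      exact ⟨V, q, z, ⟨V, 𝟙 V, q, ⟨⟩, Category.id_comp q⟩, hz⟩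
  have hsh : (Presieve.singleton q).IsSheafFor (F.obj ⋙ forget AddCommGrpCat.{u + 1}) :=
    (Presieve.isSheafFor_iff_generate _).2 ((isSheaf_iff_isSheaf_of_type _ _).1
      (Presheaf.isSheaf_comp_of_isSheaf X.smallEtaleTopology F.obj (forget AddCommGrpCat.{u+1}) F.property) _ hcov)
  intro a b hab
  refine hsh.isSeparatedFor.ext ?_
  rintro _ _ ⟨⟩
  exact hab

/-- The restriction of a global section to an étale scheme. -/
abbrev resTop (G : EtCoh.Ab X) (T : X.Etale) (s : EtCoh.sect G (EtCoh.top X)) : EtCoh.sect G T :=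
  G.obj.map ((EtCore.topIsTerminal X).from T).op s

theorem map_resTop (G : EtCoh.Ab X) {T T' : X.Etale} (k : T' ⟶ T) (s : EtCoh.sect G (EtCoh.top X)) :
    G.obj.map k.op (resTop G T s) = resTop G T' s := by
  rw [resTop, resTop, ← ConcreteCategory.comp_apply, ← Functor.map_comp, ← op_comp,
    (EtCore.topIsTerminal X).hom_ext (k ≫ (EtCore.topIsTerminal X).from T) ((EtCore.topIsTerminal X).from T')]

theorem map_comp_map {U : X.Opens} (hU : IsAffineOpen U) {A₁ A₂ A₃ : Type u} [CommRing A₁]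
    [Algebra Γ(X, U) A₁] [Algebra.Etale Γ(X, U) A₁] [CommRing A₂] [Algebra Γ(X, U) A₂]
    [Algebra.Etale Γ(X, U) A₂] [CommRing A₃] [Algebra Γ(X, U) A₃] [Algebra.Etale Γ(X, U) A₃]
    (φ : A₁ →ₐ[Γ(X, U)] A₂) (χ : A₂ →ₐ[Γ(X, U)] A₃) : map hU χ ≫ map hU φ = map hU (χ.comp φ) :=
  MorphismProperty.Over.Hom.ext (Spec.map_comp _ _).symm

theorem eta_id_map {U : X.Opens} (hU : IsAffineOpen U) {A₁ A₂ : Type u} [CommRing A₁]
    [Algebra Γ(X, U) A₁] [Algebra.Etale Γ(X, U) A₁] [CommRing A₂] [Algebra Γ(X, U) A₂]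
    [Algebra.Etale Γ(X, U) A₂] (φ : A₁ →ₐ[Γ(X, U)] A₂) (a : A₁) :
    eta hU (map hU φ) a = (Scheme.ΓSpecIso (CommRingCat.of A₂)).inv (φ a) :=
  congr($(Scheme.ΓSpecIso_inv_naturality (CommRingCat.ofHom φ.toRingHom)) a).symm

variable {A G : EtCoh.Ab X} (f : EtCoh.Gm X ⟶ A) (g : A ⟶ G) (w : f ≫ g = 0)

/-- The difference of the pullbacks of a lift is a multiplicative cocycle. -/
theorem exists_cocycle (hS : (ShortComplex.mk f g w).ShortExact) (s : EtCoh.sect G (EtCoh.top X))
    {U : X.Opens} (hU : IsAffineOpen U) {B : Type u} [CommRing B] [Algebra Γ(X, U) B]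
    [Algebra.Etale Γ(X, U) B] [Algebra.Etale Γ(X, U) (B ⊗[Γ(X, U)] B)]
    [Algebra.Etale Γ(X, U) (B ⊗[Γ(X, U)] (B ⊗[Γ(X, U)] B))] (z : EtCoh.sect A (obj hU B))
    (hz : g.hom.app (op (obj hU B)) z = resTop G (obj hU B) s) :
    ∃ (κ : EtCoh.sect (EtCoh.Gm X) (obj hU (B ⊗[Γ(X, U)] B))) (u : B ⊗[Γ(X, U)] B), IsUnit u ∧
      face23 u * face12 u = face13 u ∧
      ∀ {T : X.Etale} (k : T ⟶ obj hU (B ⊗[Γ(X, U)] B)), val ((EtCoh.Gm X).obj.map k.op κ) = eta hU k u ∧
        f.hom.app (op T) ((EtCoh.Gm X).obj.map k.op κ) =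
          A.obj.map (k ≫ map hU Algebra.TensorProduct.includeRight).op z -
            A.obj.map (k ≫ map hU Algebra.TensorProduct.includeLeft).op z := by
  let p₁ : obj hU (B ⊗[Γ(X, U)] B) ⟶ obj hU B := map hU Algebra.TensorProduct.includeLeft
  let p₂ : obj hU (B ⊗[Γ(X, U)] B) ⟶ obj hU B := map hU Algebra.TensorProduct.includeRight
  obtain ⟨κ, hκ⟩ := exists_lift_sect hS (A.obj.map p₂.op z - A.obj.map p₁.op z) (by
    change g.hom.app (op _) _ = 0
    rw [map_sub, NatTrans.naturality_apply, NatTrans.naturality_apply, hz, map_resTop, map_resTop, sub_self])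
  let u : B ⊗[Γ(X, U)] B := (Scheme.ΓSpecIso (CommRingCat.of (B ⊗[Γ(X, U)] B))).hom (val κ)
  have hκu : ∀ {T' : X.Etale} (k : T' ⟶ obj hU (B ⊗[Γ(X, U)] B)),
      val ((EtCoh.Gm X).obj.map k.op κ) = eta hU k u := fun k =>
    congrArg k.left.appTop.hom
      (congr($((Scheme.ΓSpecIso (CommRingCat.of (B ⊗[Γ(X, U)] B))).hom_inv_id) (val κ))).symm
  have hfκ : ∀ {T' : X.Etale} (k : T' ⟶ obj hU (B ⊗[Γ(X, U)] B)),
      f.hom.app (op T') ((EtCoh.Gm X).obj.map k.op κ) =
        A.obj.map (k ≫ p₂).op z - A.obj.map (k ≫ p₁).op z := fun k => by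
    refine (NatTrans.naturality_apply f.hom k.op κ).trans ?_
    refine (congrArg (A.obj.map k.op) hκ).trans ?_
    rw [map_sub, op_comp, op_comp, Functor.map_comp, Functor.map_comp, ConcreteCategory.comp_apply,
      ConcreteCategory.comp_apply]
  refine ⟨κ, u, (Units.isUnit _).map (Scheme.ΓSpecIso (CommRingCat.of (B ⊗[Γ(X, U)] B))).hom.hom, ?_,
    fun k => ⟨hκu k, hfκ k⟩⟩
  haveI : Mono f := hS.mono_f
  let P3 := obj hU (B ⊗[Γ(X, U)] (B ⊗[Γ(X, U)] B))
  let m₂₃ : P3 ⟶ _ := map hU (face23 (R := Γ(X, U)) (B := B))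
  let m₁₂ : P3 ⟶ _ := map hU (face12 (R := Γ(X, U)) (B := B))
  let m₁₃ : P3 ⟶ _ := map hU (face13 (R := Γ(X, U)) (B := B))
  have hw : (EtCoh.Gm X).obj.map m₂₃.op κ + (EtCoh.Gm X).obj.map m₁₂.op κ = (EtCoh.Gm X).obj.map m₁₃.op κ := by
    refine GrothLib.EtTrace21.injective_app f P3 ?_
    rw [map_add, hfκ, hfκ, hfκ]
    have e1 : m₁₂ ≫ p₁ = m₁₃ ≫ p₁ := by
      simp only [m₁₂, m₁₃, p₁, map_comp_map]
      exact congrArg (map hU) (AlgHom.ext fun b => by
        simp [face12, face13, Algebra.TensorProduct.includeRight_apply])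
    have e2 : m₁₂ ≫ p₂ = m₂₃ ≫ p₁ := by
      simp only [m₁₂, m₂₃, p₁, p₂, map_comp_map]
      exact congrArg (map hU) (AlgHom.ext fun b => by
        simp [face12, face23, Algebra.TensorProduct.includeRight_apply])
    have e3 : m₁₃ ≫ p₂ = m₂₃ ≫ p₂ := by
      simp only [m₁₃, m₂₃, p₂, map_comp_map]
      exact congrArg (map hU) (AlgHom.ext fun b => by
        simp only [face13, face23, AlgHom.comp_apply, Algebra.TensorProduct.includeRight_apply,
          Algebra.TensorProduct.map_tmul, map_one])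
    rw [e1, e2, e3]
    abel
  have h := congrArg val hw
  rw [val_add, hκu, hκu, hκu, eta_id_map, eta_id_map, eta_id_map] at h
  refine (Scheme.ΓSpecIso (CommRingCat.of (B ⊗[Γ(X, U)] (B ⊗[Γ(X, U)] B)))).commRingCatIsoToRingEquiv.symm.injective ?_
  exact (map_mul _ _ _).trans h

/-- The corrected lift descends to a principal open neighbourhood. -/
theorem exists_descended_lift (hS : (ShortComplex.mk f g w).ShortExact) (s : EtCoh.sect G (EtCoh.top X))
    {U : X.Opens} (hU : IsAffineOpen U) (B : Type u) [CommRing B] [Algebra Γ(X, U) B]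
    [Algebra.Etale Γ(X, U) B] [Module.FaithfullyFlat Γ(X, U) B] (z : EtCoh.sect A (obj hU B))
    (hz : g.hom.app (op (obj hU B)) z = resTop G (obj hU B) s) (p : Ideal Γ(X, U)) [p.IsPrime] :
    ∃ (r : Γ(X, U)) (_ : r ∉ p) (a : EtCoh.sect A (obj hU (Localization.Away r))),
      g.hom.app (op (obj hU (Localization.Away r))) a = resTop G (obj hU (Localization.Away r)) s := by
  haveI : Algebra.Etale Γ(X, U) (B ⊗[Γ(X, U)] B) := Algebra.Etale.comp Γ(X, U) B (B ⊗[Γ(X, U)] B)
  haveI : Algebra.Etale Γ(X, U) (B ⊗[Γ(X, U)] (B ⊗[Γ(X, U)] B)) :=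
    Algebra.Etale.comp Γ(X, U) B (B ⊗[Γ(X, U)] (B ⊗[Γ(X, U)] B))
  obtain ⟨κ, u, hu, hcoc, hk⟩ := exists_cocycle f g w hS s hU z hz
  obtain ⟨ℓ, ℓ', r, hr, hll, hinv⟩ := exists_invariant_unit u hu hcoc p
  refine ⟨r, hr, ?_⟩
  let Br := Localization.Away (algebraMap Γ(X, U) B r)
  haveI : Algebra.Etale Γ(X, U) Br := Algebra.Etale.comp Γ(X, U) B Br
  let ρ : B →ₐ[Γ(X, U)] Br := IsScalarTower.toAlgHom Γ(X, U) B Br
  have hℓ : IsUnit (ρ ℓ) := by
    have h : IsUnit (algebraMap B Br (ℓ * ℓ')) := by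
      rw [hll]
      exact IsLocalization.Away.algebraMap_isUnit _
    rw [map_mul] at h
    exact isUnit_of_mul_isUnit_left h
  have hru : IsUnit (algebraMap Γ(X, U) Br r) := by
    rw [IsScalarTower.algebraMap_apply Γ(X, U) B Br]
    exact IsLocalization.Away.algebraMap_isUnit _
  let χ₀ : Localization.Away r →+* Br := IsLocalization.Away.lift r (g := algebraMap Γ(X, U) Br) hru
  let χ : Localization.Away r →ₐ[Γ(X, U)] Br :=
    { χ₀ with commutes' := fun t => IsLocalization.Away.lift_eq r hru t }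
  let q : obj hU Br ⟶ obj hU (Localization.Away r) := map hU χ
  have hq : Surjective q.left := ⟨fun (y : PrimeSpectrum (Localization.Away r)) => by
    let y₀ : PrimeSpectrum Γ(X, U) := PrimeSpectrum.comap (algebraMap Γ(X, U) (Localization.Away r)) y
    have hry : r ∉ y₀.asIdeal := by
      have h : y₀ ∈ Set.range (PrimeSpectrum.comap (algebraMap Γ(X, U) (Localization.Away r))) := ⟨y, rfl⟩
      rw [PrimeSpectrum.localization_away_comap_range (Localization.Away r) r] at h
      exact h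
    obtain ⟨yb, hyb⟩ := PrimeSpectrum.comap_surjective_of_faithfullyFlat (A := Γ(X, U)) (B := B) y₀
    have hb : algebraMap Γ(X, U) B r ∉ yb.asIdeal := fun h => hry (by rw [← hyb]; exact h)
    obtain ⟨yr, hyr⟩ : yb ∈ Set.range (PrimeSpectrum.comap (algebraMap B Br)) := by
      rw [PrimeSpectrum.localization_away_comap_range Br (algebraMap Γ(X, U) B r)]
      exact hb
    refine ⟨yr, PrimeSpectrum.localization_comap_injective (Localization.Away r) (Submonoid.powers r) ?_⟩
    change PrimeSpectrum.comap (algebraMap Γ(X, U) (Localization.Away r)) (PrimeSpectrum.comap χ.toRingHom yr) = y₀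
    rw [← hyb, ← hyr, ← PrimeSpectrum.comap_comp_apply, ← PrimeSpectrum.comap_comp_apply]
    have e : χ.toRingHom.comp (algebraMap Γ(X, U) (Localization.Away r)) =
        (algebraMap B Br).comp (algebraMap Γ(X, U) B) :=
      RingHom.ext fun t => (χ.commutes t).trans (IsScalarTower.algebraMap_apply Γ(X, U) B Br t)
    rw [e]⟩
  let L : EtCoh.sect (EtCoh.Gm X) (obj hU Br) := ofUnit ((Scheme.ΓSpecIso (CommRingCat.of Br)).inv (ρ ℓ))
    (hℓ.map (Scheme.ΓSpecIso (CommRingCat.of Br)).inv.hom)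
  obtain ⟨a, ha⟩ := exists_descend_singleton A q hq (A.obj.map (map hU ρ).op z - f.hom.app (op (obj hU Br)) L)
    fun T' g₁ g₂ _ => by
    obtain ⟨k, hk₁, hk₂⟩ := exists_pair hU (g₁ ≫ map hU ρ) (g₂ ≫ map hU ρ)
    obtain ⟨hκu, hfκ⟩ := hk k
    rw [hk₁, hk₂] at hfκ
    have hval : (EtCoh.Gm X).obj.map k.op κ + (EtCoh.Gm X).obj.map g₁.op L =
        (EtCoh.Gm X).obj.map g₂.op L := by
      apply val_injective
      rw [val_add, hκu, val_map, val_map, val_ofUnit]
      change eta hU k u * eta hU g₁ (ρ ℓ) = eta hU g₂ (ρ ℓ)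
      rw [← eta_comp_map hU ρ g₁, ← eta_comp_map hU ρ g₂, ← hk₁, ← hk₂,
        eta_comp_map, eta_comp_map, ← map_mul]
      exact congrArg (eta hU k) hinv
    have h := congrArg (f.hom.app (op T')) hval
    rw [map_add, hfκ, NatTrans.naturality_apply, NatTrans.naturality_apply] at h
    have hc : ∀ g' : T' ⟶ obj hU Br,
        A.obj.map g'.op (A.obj.map (map hU ρ).op z) = A.obj.map (g' ≫ map hU ρ).op z := fun g' => by
      rw [← ConcreteCategory.comp_apply, ← Functor.map_comp, ← op_comp]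
    rw [map_sub, map_sub, hc, hc, ← h]
    abel
  refine ⟨a, injective_map_of_surjective G q hq ?_⟩
  rw [map_resTop]
  refine (NatTrans.naturality_apply g.hom q.op a).symm.trans ?_
  rw [ha, map_sub, NatTrans.naturality_apply, hz, map_resTop,
    show g.hom.app (op (obj hU Br)) (f.hom.app (op (obj hU Br)) L) = 0 from
      congr($(congrArg (fun m : EtCoh.Gm X ⟶ G => m.hom.app (op (obj hU Br))) w) L), sub_zero]

/-- Near every point a lift exists on an open immersion. -/
theorem exists_lift_near (hS : (ShortComplex.mk f g w).ShortExact) (s : EtCoh.sect G (EtCoh.top X)) (x : X) :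
    ∃ (W : X.Etale) (_ : IsOpenImmersion W.hom) (a : EtCoh.sect A W),
      x ∈ Set.range W.hom.base ∧ g.hom.app (op W) a = resTop G W s := by
  haveI : Epi g := hS.epi_g
  haveI : Sheaf.IsLocallySurjective g := (Sheaf.isLocallySurjective_iff_epi' _ g).2 inferInstance
  obtain ⟨U, hU, hxU, -⟩ := exists_isAffineOpen_mem_and_subset (X := X) (U := ⊤) (x := x) trivial
  let R := Γ(X, U)
  let Y : X.Etale := obj hU R
  haveI : IsAffine Y.left := inferInstanceAs (IsAffine (Spec (CommRingCat.of R)))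
  obtain ⟨T, c, hT, hc, -, z₀, hz₀⟩ := GrothLib.EtQc13.exists_affine_cover_lift (Y := Y) g (resTop G Y s)
    (Presheaf.imageSieve_mem _ _ _)
  haveI : IsAffine T.left := hT
  haveI : Etale c.left := GrothLib.ConnFibres.etale_left c
  haveI : Surjective c.left := hc
  let cs : Spec Γ(T.left, ⊤) ⟶ Spec (CommRingCat.of R) := T.left.isoSpec.inv ≫ c.left
  haveI : Etale cs := inferInstanceAs (Etale (T.left.isoSpec.inv ≫ c.left))
  haveI : Surjective cs := inferInstanceAs (Surjective (T.left.isoSpec.inv ≫ c.left))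
  let B : Type u := Γ(T.left, ⊤)
  letI algB : Algebra R B := (Spec.preimage cs).hom.toAlgebra
  have hcs : Spec.map (CommRingCat.ofHom (algebraMap R B)) = cs := Spec.map_preimage cs
  haveI : Etale (Spec.map (CommRingCat.ofHom (algebraMap R B))) := hcs ▸ inferInstanceAs (Etale cs)
  haveI : Algebra.Etale R B := RingHom.etale_algebraMap.1
    ((HasRingHomProperty.Spec_iff (P := @Etale)).1 ‹Etale (Spec.map (CommRingCat.ofHom (algebraMap R B)))›)
  haveI : Module.FaithfullyFlat R B := by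
    refine Module.FaithfullyFlat.of_comap_surjective fun p => ?_
    obtain ⟨q, hq⟩ := cs.surjective p
    exact ⟨q, (congrArg (fun k : Spec (CommRingCat.of B) ⟶ Spec (CommRingCat.of R) => k.base q) hcs).trans hq⟩
  let e₀ : obj hU B ⟶ T := MorphismProperty.Over.homMk T.left.isoSpec.inv (by
    change T.left.isoSpec.inv ≫ T.hom = Spec.map (CommRingCat.ofHom (algebraMap R B)) ≫ hU.fromSpec
    have hY : Y.hom = hU.fromSpec := by
      change Spec.map (CommRingCat.ofHom (algebraMap R R)) ≫ hU.fromSpec = hU.fromSpec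
      rw [show (CommRingCat.ofHom (algebraMap R R)) = 𝟙 (CommRingCat.of R) from rfl, Spec.map_id, Category.id_comp]
    rw [← MorphismProperty.Over.w c, hY, hcs]
    exact (Category.assoc _ _ _).symm) trivial
  have hz : g.hom.app (op (obj hU B)) (A.obj.map e₀.op z₀) = resTop G (obj hU B) s := by
    refine (NatTrans.naturality_apply g.hom e₀.op z₀).trans ?_
    refine (congrArg (G.obj.map e₀.op) hz₀).trans ?_
    rw [map_resTop G c s, map_resTop G e₀ s]
  let p := hU.primeIdealOf ⟨x, hxU⟩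
  obtain ⟨r, hr, a, ha⟩ := exists_descended_lift f g w hS s hU B _ hz p.asIdeal
  haveI : IsOpenImmersion (obj hU (Localization.Away r)).hom := by
    haveI : IsOpenImmersion (Spec.map (CommRingCat.ofHom (algebraMap R (Localization.Away r)))) :=
      IsOpenImmersion.of_isLocalization r
    exact inferInstanceAs (IsOpenImmersion
      (Spec.map (CommRingCat.ofHom (algebraMap R (Localization.Away r))) ≫ hU.fromSpec))
  refine ⟨_, inferInstance, a, ?_, ha⟩
  obtain ⟨y, hy⟩ : p ∈ Set.range (PrimeSpectrum.comap (algebraMap R (Localization.Away r))) := by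
    rw [PrimeSpectrum.localization_away_comap_range (Localization.Away r) r]
    exact hr
  refine ⟨y, ?_⟩
  change hU.fromSpec.base (PrimeSpectrum.comap (algebraMap R (Localization.Away r)) y) = x
  rw [hy]
  exact hU.fromSpec_primeIdealOf ⟨x, hxU⟩

/-- Degree one classes of the multiplicative group die near every point. -/
theorem exists_open_Hpull_eq_zero (c : EtCoh.H X (EtCoh.Gm X) 1) (x : X) :
    ∃ U : X.Opens, x ∈ U ∧ ∀ [PreservesFiniteLimits (EtCoh.pull U.ι)],
      EtCore.Hpull U.ι (EtCoh.Gm X) 1 c = 0 := by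
  have hS := injS_shortExact (EtCoh.Gm X)
  haveI : Injective (injS (EtCoh.Gm X)).X₂ := inferInstanceAs (Injective (Injective.under _))
  obtain ⟨c₀, rfl⟩ := Ext.covariant_sequence_exact₁ _ hS c (Ext.eq_zero_of_injective _) rfl
  obtain ⟨φ, rfl⟩ := (Ext.mk₀_bijective _ _).2 c₀
  obtain ⟨W, hW, a, hx, ha⟩ := exists_lift_near (injS (EtCoh.Gm X)).f (injS (EtCoh.Gm X)).g
    (injS (EtCoh.Gm X)).zero hS (evOne _ φ) x
  haveI := hW
  let U : X.Opens := W.hom.opensRange
  let V : X.Etale := MorphismProperty.Over.mk _ U.ι (inferInstanceAs (Etale U.ι))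
  let k : V ⟶ W := MorphismProperty.Over.homMk (IsOpenImmersion.lift W.hom U.ι (Scheme.Opens.range_ι U).le)
    (IsOpenImmersion.lift_fac _ _ _) trivial
  refine ⟨U, hx, fun [hL : PreservesFiniteLimits (EtCoh.pull U.ι)] => ?_⟩
  haveI : PreservesFiniteLimits (EtCoh.pull V.hom) := hL
  refine Hpull_eq_zero_of_lift φ V ((injS (EtCoh.Gm X)).X₂.obj.map k.op a) ?_
  refine (NatTrans.naturality_apply _ k.op a).trans ?_
  rw [ha, ← ConcreteCategory.comp_apply, ← Functor.map_comp, ← op_comp]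
  congr 4
  exact (EtCore.topIsTerminal X).hom_ext _ _

end GrothLib.PicLocal18
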